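import Groth.Agent.QC70.HomMod
import Groth.Agent.Var76.OmegaUniv

/-!
The sections of a module over the trace of a fixed open subset, and morphisms out of a pullback of
differentials over an open, from derivations.
-/

set_option autoImplicit false
set_option backward.isDefEq.respectTransparency.types false

universe u

open CategoryTheory CategoryTheory.Limits AlgebraicGeometry TopologicalSpace Opposite

noncomputable section

namespace Groth.Agent.Lift3.OnOpen

open Groth.Agent QC70

variable {X : Scheme.{u}} (P : X.Opens) (N : X.Modules)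

/-- The sections of `N` on the trace of `P`. -/
def Piece (W : X.Opens) : Type u := Γ(N, W ⊓ P)

instance (W : X.Opens) : AddCommGroup (Piece P N W) := inferInstanceAs (AddCommGroup Γ(N, W ⊓ P))

instance (W : X.Opens) : Module Γ(X, W) (Piece P N W) :=
  Module.compHom Γ(N, W ⊓ P) (X.presheaf.map (homOfLE (inf_le_left : W ⊓ P ≤ W)).op).hom

/-- A piece as a section. -/
def pc {W : X.Opens} (z : Piece P N W) : Γ(N, W ⊓ P) := z

theorem pc_smul {W : X.Opens} (r : Γ(X, W)) (z : Piece P N W) :
    pc P N (r • z) = resO X (inf_le_left : W ⊓ P ≤ W) r • pc P N z := rfl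

/-- The presheaf of sections on the trace of `P`. -/
def presheaf : TopCat.Presheaf AddCommGrpCat.{u} X.carrier where
  obj W := AddCommGrpCat.of (Piece P N W.unop)
  map i := AddCommGrpCat.ofHom (N.presheaf.map (homOfLE (inf_le_inf_right P i.unop.le)).op).hom
  map_id W := AddCommGrpCat.hom_ext (AddMonoidHom.ext fun z => res_self (M := N) z)
  map_comp i j := AddCommGrpCat.hom_ext (AddMonoidHom.ext fun z => (res_res (M := N) _ _ _).symm)

/-- The module of sections on the trace of `P`. -/
def onOpen : X.Modules where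
  val := @PresheafOfModules.ofPresheaf _ _ X.ringCatSheaf.obj (presheaf P N)
    (fun W => inferInstanceAs (Module Γ(X, W.unop) (Piece P N W.unop)))
    (fun W W' i r z => by
      show res N (inf_le_inf_right P i.unop.le) (resO X (inf_le_left : W.unop ⊓ P ≤ W.unop) r • pc P N z) =
        resO X (inf_le_left : W'.unop ⊓ P ≤ W'.unop) (resO X i.unop.le r) •
          res N (inf_le_inf_right P i.unop.le) (pc P N z)
      rw [res_smul, resO_resO, resO_resO])
  isSheaf := by
    refine (TopCat.Presheaf.isSheaf_iff_isSheafUniqueGluing (presheaf P N)).mpr ?_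
    intro κ V sf hsf
    let x : ∀ a, Γ(N, V a ⊓ P) := sf
    have hx : ∀ a b, res N (inf_le_inf_right P (inf_le_left : V a ⊓ V b ≤ V a)) (x a) =
        res N (inf_le_inf_right P (inf_le_right : V a ⊓ V b ≤ V b)) (x b) := hsf
    have hle : iSup V ⊓ P ≤ ⨆ a, V a ⊓ P := by rw [iSup_inf_eq]
    obtain ⟨t, ht⟩ := exists_glue N (fun a => V a ⊓ P) (fun a => inf_le_inf_right _ (le_iSup V a)) hle x fun a b => by
      have h := congrArg (res N (le_inf (le_inf (inf_le_left.trans inf_le_left) (inf_le_right.trans inf_le_left))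
        (inf_le_left.trans inf_le_right) : (V a ⊓ P) ⊓ (V b ⊓ P) ≤ V a ⊓ V b ⊓ P)) (hx a b)
      simp only [res_res] at h
      exact h
    exact ⟨t, fun a => ht a, fun s hs =>
      section_ext' N (fun a => V a ⊓ P) (fun a => inf_le_inf_right _ (le_iSup V a)) hle s t fun a =>
        (hs a).trans (ht a).symm⟩

variable {P N}

/-- A section of `onOpen` as a section of `N`. -/
def sec {W : X.Opens} (z : Γ(onOpen P N, W)) : Γ(N, W ⊓ P) := z

theorem sec_add {W : X.Opens} (z z' : Γ(onOpen P N, W)) : sec (z + z') = sec z + sec z' := rfl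

theorem sec_smul {W : X.Opens} (r : Γ(X, W)) (z : Γ(onOpen P N, W)) :
    sec (r • z) = resO X (inf_le_left : W ⊓ P ≤ W) r • sec z := rfl

theorem sec_res {W W' : X.Opens} (h : W' ≤ W) (z : Γ(onOpen P N, W)) :
    sec (res (onOpen P N) h z) = res N (inf_le_inf_right P h) (sec z) := rfl

/-- The local morphism of a morphism into the sections on the trace of `P`. -/
def toHomOn {M : X.Modules} (u : M ⟶ onOpen P N) : HomOn M N P where
  app W hW :=
    { toFun := fun s => res N (le_inf le_rfl hW) (sec (u.app W s))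
      map_add' := fun a b => by
        rw [map_add, sec_add, res_add]
      map_smul' := fun r a => by
        rw [Scheme.Modules.Hom.app_smul, sec_smul, res_smul, resO_resO, resO_self]
        rfl }
  app_res {W W'} hW h s := by
    show res N _ (sec (u.app W' (res M h s))) = res N h (res N _ (sec (u.app W s)))
    rw [app_res u h s]
    show res N _ (res N _ (sec (u.app W s))) = _
    rw [res_res, res_res]

/-- The morphism into the sections on the trace of `P` of a local morphism. -/
def ofHomOn {M : X.Modules} (φ : HomOn M N P) : M ⟶ onOpen P N :=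
  HomOn.toHom
    { app := fun W _ =>
        { toFun := fun s => (φ.app (W ⊓ P) inf_le_right (res M inf_le_left s) : Piece P N W)
          map_add' := fun a b => by
            rw [res_add, map_add]
            rfl
          map_smul' := fun r a => by
            rw [res_smul, map_smul]
            rfl }
      app_res := fun {W W'} _ h s => by
        show φ.app (W' ⊓ P) inf_le_right (res M inf_le_left (res M h s)) =
          res N (inf_le_inf_right P h) (φ.app (W ⊓ P) inf_le_right (res M inf_le_left s))
        rw [← φ.app_res, res_res, res_res] }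

theorem ofHomOn_toHomOn {M : X.Modules} (u : M ⟶ onOpen P N) : ofHomOn (toHomOn u) = u := by
  refine Scheme.Modules.hom_ext _ _ fun W => ?_
  ext s
  show res N _ (sec (u.app (W ⊓ P) (res M inf_le_left s))) = sec (u.app W s)
  rw [app_res u inf_le_left s]
  show res N _ (res N _ (sec (u.app W s))) = _
  rw [res_res, res_self]

theorem toHomOn_app {M : X.Modules} (u : M ⟶ onOpen P N) {W W₀ : X.Opens} (hW : W ≤ P) (h : W ≤ W₀) (s : Γ(M, W₀)) :
    (toHomOn u).app W hW (res M h s) = res N (le_inf h hW) (sec (u.app W₀ s)) := by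
  show res N _ (sec (u.app W (res M h s))) = _
  rw [app_res u h s]
  show res N _ (res N _ (sec (u.app W₀ s))) = _
  rw [res_res]

section Pullback

variable {D Y S : Scheme.{u}} {g : D ⟶ Y} {q : Y ⟶ S} {Ω : Y.Modules} {d : OmegaSh.Der q Ω}
  {P' : D.Opens} {N' : D.Modules}

/-- Local morphisms out of a pullback of differentials are determined on the differentials. -/
theorem homOn_ext (hd : OmegaSh.IsUniversal d) (φ ψ : HomOn ((Scheme.Modules.pullback g).obj Ω) N' P')
    (h : ∀ (V : Y.Opens) (y : Γ(Y, V)),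
      φ.app (g ⁻¹ᵁ V ⊓ P') inf_le_right (res _ inf_le_left (OmegaSh.pullSect g Ω V (d.app V y))) =
        ψ.app (g ⁻¹ᵁ V ⊓ P') inf_le_right (res _ inf_le_left (OmegaSh.pullSect g Ω V (d.app V y)))) :
    φ = ψ := by
  let adj := Scheme.Modules.pullbackPushforwardAdjunction g
  have h1 : ofHomOn φ = ofHomOn ψ := by
    refine (adj.homEquiv _ _).injective ?_
    obtain ⟨_, -, hu⟩ := hd _ (d.postcomp (adj.homEquiv _ _ (ofHomOn ψ)).val)
    refine (hu _ ?_).trans (hu _ rfl).symm
    refine PresheafOfModules.Derivation.ext (funext fun W => AddMonoidHom.ext fun y => ?_)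
    show (adj.homEquiv _ _ (ofHomOn φ)).app W.unop (d.app W.unop y) =
      (adj.homEquiv _ _ (ofHomOn ψ)).app W.unop (d.app W.unop y)
    rw [Adjunction.homEquiv_unit, Adjunction.homEquiv_unit]
    exact h W.unop y
  refine HomOn.ext' fun W hW s => ?_
  have h2 := congrArg (fun u => pc P' N' (u.app W s : Piece P' N' W)) h1
  change φ.app (W ⊓ P') inf_le_right (res _ inf_le_left s) = ψ.app (W ⊓ P') inf_le_right (res _ inf_le_left s) at h2
  rw [φ.app_res hW inf_le_left, ψ.app_res hW inf_le_left] at h2
  have h3 := congrArg (res N' (le_inf le_rfl hW : W ≤ W ⊓ P')) h2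
  rwa [res_res, res_res, res_self, res_self] at h3

/-- A local morphism out of a pullback of differentials from a derivation. -/
theorem exists_homOn (hd : OmegaSh.IsUniversal d) (δ : ∀ V : Y.Opens, Γ(Y, V) → Γ(N', g ⁻¹ᵁ V ⊓ P'))
    (hadd : ∀ V x y, δ V (x + y) = δ V x + δ V y)
    (hmul : ∀ V x y, δ V (x * y) =
      g.appLE V (g ⁻¹ᵁ V ⊓ P') inf_le_left x • δ V y + g.appLE V (g ⁻¹ᵁ V ⊓ P') inf_le_left y • δ V x)
    (hres : ∀ (V V' : Y.Opens) (h : V' ≤ V) y, δ V' (Y.presheaf.map (homOfLE h).op y) =
      res N' (inf_le_inf_right P' (g.preimage_mono h)) (δ V y))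
    (happ : ∀ (T : S.Opens) c, δ (q ⁻¹ᵁ T) (q.app T c) = 0) :
    ∃ φ : HomOn ((Scheme.Modules.pullback g).obj Ω) N' P', ∀ (V : Y.Opens) (W : D.Opens) (hW : W ≤ P')
      (h : W ≤ g ⁻¹ᵁ V) (y : Γ(Y, V)),
        φ.app W hW (res _ h (OmegaSh.pullSect g Ω V (d.app V y))) = res N' (le_inf h hW) (δ V y) := by
  let E : OmegaSh.Der q ((Scheme.Modules.pushforward g).obj (onOpen P' N')) :=
    { d := fun {V} => AddMonoidHom.mk' (fun y => (δ V.unop y : Piece P' N' (g ⁻¹ᵁ V.unop))) (hadd V.unop)
      d_mul := fun {V} x y => by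
        show δ V.unop (x * y) = resO D (inf_le_left : g ⁻¹ᵁ V.unop ⊓ P' ≤ g ⁻¹ᵁ V.unop) (g.app V.unop x) • δ V.unop y +
          resO D (inf_le_left : g ⁻¹ᵁ V.unop ⊓ P' ≤ g ⁻¹ᵁ V.unop) (g.app V.unop y) • δ V.unop x
        rw [hmul]
        rfl
      d_map := fun {V V'} i y => hres V.unop V'.unop i.unop.le y
      d_app := fun {T} c => happ T.unop c }
  obtain ⟨u, hu, -⟩ := hd _ E
  let adj := Scheme.Modules.pullbackPushforwardAdjunction g
  refine ⟨toHomOn ((adj.homEquiv _ _).symm u), fun V W hW h y => ?_⟩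
  rw [toHomOn_app]
  refine congrArg (res N' _) ?_
  have h1 : adj.homEquiv _ _ ((adj.homEquiv _ _).symm u) = u := Equiv.apply_symm_apply _ _
  rw [Adjunction.homEquiv_unit] at h1
  refine (congrArg (pc P' N') (congr(Scheme.Modules.Hom.app $h1 V (d.app V y)))).trans ?_
  exact congr($(congrArg (fun D' => OmegaSh.Der.app D' V) hu) y)

end Pullback

end Groth.Agent.Lift3.OnOpen
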