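import Groth.Agent.QC70.HomMod
import Groth.Agent.Om3.Chart
import Mathlib.Algebra.Homology.DerivedCategory.Ext.ExactSequences

/-!
A Čech one-cocycle of local morphisms `M → N` gives an extension of `M` by `N`; so it is a coboundary
when `Ext¹(M, N) = 0`.
-/

set_option autoImplicit false
set_option backward.isDefEq.respectTransparency.types false

universe u

open CategoryTheory CategoryTheory.Limits AlgebraicGeometry TopologicalSpace Opposite

noncomputable section

namespace Groth.Agent.Lift3.Cocycle

open Groth.Agent QC70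

variable {X : Scheme.{u}} {M N : X.Modules} {ι : Type u} (U : ι → X.Opens)

/-- The sections of `N` on the trace of the `i`-th open. -/
def Piece (N : X.Modules) (W : X.Opens) (i : ι) : Type u := Γ(N, W ⊓ U i)

instance (W : X.Opens) (i : ι) : AddCommGroup (Piece U N W i) :=
  inferInstanceAs (AddCommGroup Γ(N, W ⊓ U i))

instance (W : X.Opens) (i : ι) : Module Γ(X, W) (Piece U N W i) :=
  Module.compHom Γ(N, W ⊓ U i) (X.presheaf.map (homOfLE (inf_le_left : W ⊓ U i ≤ W)).op).hom

/-- A piece as a section. -/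
def pc {W : X.Opens} {i : ι} (z : Piece U N W i) : Γ(N, W ⊓ U i) := z

@[simp] theorem pc_add {W : X.Opens} {i : ι} (z z' : Piece U N W i) : pc U (z + z') = pc U z + pc U z' := rfl

@[simp] theorem pc_zero {W : X.Opens} {i : ι} : pc U (0 : Piece U N W i) = 0 := rfl

@[simp] theorem pc_smul {W : X.Opens} {i : ι} (r : Γ(X, W)) (z : Piece U N W i) :
    pc U (r • z) = resO X (inf_le_left : W ⊓ U i ≤ W) r • pc U z := rfl

variable (δ : ∀ i j, HomOn M N (U i ⊓ U j))

/-- The cocycle condition. -/
def IsCocycle : Prop :=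
  ∀ (i j k : ι) (W : X.Opens) (hij : W ≤ U i ⊓ U j) (hjk : W ≤ U j ⊓ U k) (hik : W ≤ U i ⊓ U k) (s : Γ(M, W)),
    (δ i k).app W hik s = (δ i j).app W hij s + (δ j k).app W hjk s

/-- The condition on a section of the extension. -/
def Compat (W : X.Opens) (x : Γ(M, W) × ∀ i, Piece U N W i) : Prop :=
  ∀ (i j : ι) (V : X.Opens) (hV : V ≤ W) (hi : V ≤ U i) (hj : V ≤ U j),
    res N (le_inf hV hj) (pc U (x.2 j)) - res N (le_inf hV hi) (pc U (x.2 i)) =
      (δ i j).app V (le_inf hi hj) (res M hV x.1)

/-- The sections of the extension. -/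
def sec (W : X.Opens) : Submodule Γ(X, W) (Γ(M, W) × ∀ i, Piece U N W i) where
  carrier := {x | Compat U δ W x}
  zero_mem' := fun i j V hV hi hj => by
    show res N (le_inf hV hj) (0 : Γ(N, W ⊓ U j)) - res N (le_inf hV hi) (0 : Γ(N, W ⊓ U i)) = _
    simp
  add_mem' := fun {x y} hx hy i j V hV hi hj => by
    show res N (le_inf hV hj) (pc U ((x.2 j)) + (pc U (y.2 j))) -
      res N (le_inf hV hi) (pc U ((x.2 i)) + (pc U (y.2 i))) =
        (δ i j).app V (le_inf hi hj) (res M hV (x.1 + y.1))
    rw [res_add, res_add, res_add, map_add, ← hx i j V hV hi hj, ← hy i j V hV hi hj]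
    abel
  smul_mem' := fun r {x} hx i j V hV hi hj => by
    show res N (le_inf hV hj) (resO X (inf_le_left : W ⊓ U j ≤ W) r • (pc U (x.2 j))) -
      res N (le_inf hV hi) (resO X (inf_le_left : W ⊓ U i ≤ W) r • (pc U (x.2 i))) =
        (δ i j).app V (le_inf hi hj) (res M hV (r • x.1))
    rw [res_smul, res_smul, res_smul, resO_resO, resO_resO, map_smul, ← hx i j V hV hi hj, smul_sub]

theorem sec_ext {W : X.Opens} {x y : sec U δ W} (h₁ : x.1.1 = y.1.1) (h₂ : ∀ i, x.1.2 i = y.1.2 i) : x = y :=
  Subtype.ext (Prod.ext h₁ (funext h₂))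

/-- Restriction. -/
def resSec {V W : X.Opens} (h : V ≤ W) : sec U δ W →+ sec U δ V where
  toFun x := ⟨(res M h x.1.1, fun i => res N (inf_le_inf_right _ h) (pc U (x.1.2 i))),
    fun i j V' hV hi hj => by
      show res N _ (res N _ (pc U (x.1.2 j))) - res N _ (res N _ (pc U (x.1.2 i))) = _
      rw [res_res, res_res, res_res]
      exact x.2 i j V' (hV.trans h) hi hj⟩
  map_zero' := sec_ext U δ (res_zero h) fun _ => res_zero _
  map_add' x y := sec_ext U δ (res_add h _ _) fun _ => res_add _ _ _

/-- The underlying presheaf of the extension. -/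
def extPresheaf : TopCat.Presheaf AddCommGrpCat.{u} X.carrier where
  obj W := AddCommGrpCat.of (sec U δ W.unop)
  map i := AddCommGrpCat.ofHom (resSec U δ i.unop.le)
  map_id W := by
    refine AddCommGrpCat.hom_ext (AddMonoidHom.ext fun (x : sec U δ _) => sec_ext U δ ?_ fun k => ?_)
    · exact res_self _
    · exact res_self (M := N) _
  map_comp i j := by
    refine AddCommGrpCat.hom_ext (AddMonoidHom.ext fun (x : sec U δ _) => sec_ext U δ ?_ fun k => ?_)
    · exact (res_res _ _ _).symm
    · exact (res_res (M := N) _ _ _).symm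

/-- The extension. -/
def ext : X.Modules where
  val := @PresheafOfModules.ofPresheaf _ _ X.ringCatSheaf.obj (extPresheaf U δ)
    (fun W => inferInstanceAs (Module Γ(X, W.unop) (sec U δ W.unop)))
    (fun W W' i r x => sec_ext U δ (res_smul _ _ _) fun k => by
      show res N (inf_le_inf_right _ i.unop.le : W'.unop ⊓ U k ≤ W.unop ⊓ U k)
          (resO X (inf_le_left : W.unop ⊓ U k ≤ W.unop) r • (pc U (x.1.2 k))) =
        resO X (inf_le_left : W'.unop ⊓ U k ≤ W'.unop) (resO X i.unop.le r) •
          res N (inf_le_inf_right _ i.unop.le : W'.unop ⊓ U k ≤ W.unop ⊓ U k) (pc U (x.1.2 k))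
      rw [res_smul, resO_resO, resO_resO])
  isSheaf := by
    refine (TopCat.Presheaf.isSheaf_iff_isSheafUniqueGluing (extPresheaf U δ)).mpr ?_
    intro κ V sf hsf
    let x : ∀ a, sec U δ (V a) := sf
    have hx : ∀ a b, resSec U δ (inf_le_left : V a ⊓ V b ≤ V a) (x a) = resSec U δ inf_le_right (x b) := hsf
    obtain ⟨t, ht⟩ := exists_glue M V (fun a => le_iSup V a) le_rfl (fun a => (x a).1.1)
      (fun a b => congrArg (fun z : sec U δ (V a ⊓ V b) => z.1.1) (hx a b))
    have hn : ∀ i, ∃ m : Γ(N, iSup V ⊓ U i), ∀ a, res N (inf_le_inf_right _ (le_iSup V a)) m =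
        pc U ((x a).1.2 i) := fun i =>
      exists_glue N (fun a => V a ⊓ U i) (fun a => inf_le_inf_right _ (le_iSup V a))
        (by rw [iSup_inf_eq]) _ fun a b => by
        have h := congrArg (fun z : sec U δ (V a ⊓ V b) => res N
          (le_inf (le_inf (inf_le_left.trans inf_le_left) (inf_le_right.trans inf_le_left))
            (inf_le_left.trans inf_le_right) : (V a ⊓ U i) ⊓ (V b ⊓ U i) ≤ V a ⊓ V b ⊓ U i)
          (pc U (z.1.2 i))) (hx a b)
        simp only [resSec, pc, AddMonoidHom.coe_mk, ZeroHom.coe_mk, res_res] at h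
        exact h
    choose m hm using hn
    have hc : Compat U δ (iSup V) (t, fun i => m i) := by
      intro i j W hW hi hj
      refine section_ext' N (fun a => W ⊓ V a) (fun _ => inf_le_left)
        (by rw [← inf_iSup_eq]; exact le_inf le_rfl hW) _ _ fun a => ?_
      have key := (x a).2 i j (W ⊓ V a) inf_le_right (inf_le_left.trans hi) (inf_le_left.trans hj)
      rw [res_sub, ← (δ i j).app_res, res_res, res_res, res_res]
      rw [← hm j a, ← hm i a, ← ht a, res_res, res_res, res_res] at key
      exact key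
    refine ⟨(⟨(t, fun i => m i), hc⟩ : sec U δ (iSup V)), fun a => sec_ext U δ (ht a) fun i => hm i a, ?_⟩
    intro y hy
    let y' : sec U δ (iSup V) := y
    have hy' : ∀ a, resSec U δ (le_iSup V a) y' = x a := hy
    refine sec_ext U δ (section_ext' M V (fun a => le_iSup V a) le_rfl _ _ fun a => ?_) fun i => ?_
    · exact (congrArg (fun z : sec U δ (V a) => z.1.1) (hy' a)).trans (ht a).symm
    · refine section_ext' N (fun a => V a ⊓ U i) (fun a => inf_le_inf_right _ (le_iSup V a))
        (by rw [iSup_inf_eq]) _ _ fun a => ?_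
      exact (congrArg (fun z : sec U δ (V a) => (pc U (z.1.2 i))) (hy' a)).trans (hm i a).symm

/-- The inclusion of `N`. -/
def inN : N ⟶ ext U δ :=
  HomOn.toHom
    { app := fun W _ =>
        { toFun := fun n => (⟨(0, fun _ => res N inf_le_left n), fun i j V hV hi hj => by
            show res N _ (res N _ n) - res N _ (res N _ n) = _
            rw [res_res, res_res, sub_self, res_zero, map_zero]⟩ : sec U δ W)
          map_add' := fun a b => sec_ext U δ (add_zero _).symm fun _ => res_add _ _ _
          map_smul' := fun r a => sec_ext U δ (smul_zero r).symm fun k =>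
            res_smul (M := N) (inf_le_left : W ⊓ U k ≤ W) r a }
      app_res := fun _ h s => sec_ext U δ (res_zero h).symm fun _ => (res_res _ _ _).trans (res_res _ _ _).symm }

/-- The projection to `M`. -/
def outM : ext U δ ⟶ M :=
  HomOn.toHom
    { app := fun W _ =>
        { toFun := fun x => (x : sec U δ W).1.1
          map_add' := fun _ _ => rfl
          map_smul' := fun _ _ => rfl }
      app_res := fun _ _ _ => rfl }

theorem inN_outM : inN U δ ≫ outM U δ = 0 := by
  refine Scheme.Modules.hom_ext _ _ fun W => ?_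
  ext s
  show (0 : Γ(M, W)) = (0 : N ⟶ M).app W s
  rw [Scheme.Modules.Hom.zero_app]
  rfl

theorem shortExact (hU : ∀ x : X, ∃ i, x ∈ U i) (hδ : IsCocycle U δ) :
    (ShortComplex.mk (inN U δ) (outM U δ) (inN_outM U δ)).ShortExact := by
  have hcov : ∀ W : X.Opens, W ≤ ⨆ i, W ⊓ U i := fun W x hx => by
    obtain ⟨i, hi⟩ := hU x
    exact Opens.mem_iSup.2 ⟨i, hx, hi⟩
  have hmono : Mono (inN U δ) := mono_of_app_injective _ fun W a b hab =>
    section_ext' N (fun i => W ⊓ U i) (fun _ => inf_le_left) (hcov W) a b fun i =>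
      congrArg (fun z : sec U δ W => (pc U (z.1.2 i))) (show (show sec U δ W from (inN U δ).app W a) =
        (show sec U δ W from (inN U δ).app W b) from hab)
  have hepi : Epi (outM U δ) := Om3.epi_of_basis _ fun O p hp => by
    obtain ⟨c, hc⟩ := hU p
    refine ⟨O ⊓ U c, ⟨hp, hc⟩, inf_le_left, fun s => ?_⟩
    refine ⟨(⟨(s, fun i => (δ c i).app (O ⊓ U c ⊓ U i) (le_inf (inf_le_left.trans inf_le_right) inf_le_right)
      (res M inf_le_left s)), fun i j V hV hi hj => ?_⟩ : sec U δ (O ⊓ U c)), rfl⟩
    show res N _ ((δ c j).app _ _ _) - res N _ ((δ c i).app _ _ _) = (δ i j).app V _ (res M hV s)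
    rw [← (δ c j).app_res, ← (δ c i).app_res, res_res, res_res,
      hδ c i j V (le_inf (hV.trans inf_le_right) hi) (le_inf hi hj) (le_inf (hV.trans inf_le_right) hj), add_sub_cancel_left]
  have hex : (ShortComplex.mk (inN U δ) (outM U δ) (inN_outM U δ)).Exact := Om3.exact_of_basis _ fun O p hp => by
    refine ⟨O, hp, le_rfl, fun x hx => ?_⟩
    let x' : sec U δ O := x
    have hx' : x'.1.1 = 0 := hx
    obtain ⟨n, hn⟩ := exists_glue N (fun i => O ⊓ U i) (fun _ => inf_le_left) (hcov O)
      (fun i => (pc U (x'.1.2 i))) fun i j => by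
        have h := x'.2 i j ((O ⊓ U i) ⊓ (O ⊓ U j)) (inf_le_left.trans inf_le_left) (inf_le_left.trans inf_le_right)
          (inf_le_right.trans inf_le_right)
        rw [hx', res_zero, map_zero, sub_eq_zero] at h
        exact h.symm
    refine ⟨n, ?_⟩
    show (show sec U δ O from (inN U δ).app O n) = x'
    exact sec_ext U δ hx'.symm fun i => hn i
  exact { exact := hex, mono_f := hmono, epi_g := hepi }

/-- A cocycle is a coboundary when `Ext¹(M, N)` vanishes. -/
theorem exists_eq_sub [HasExt.{u} X.Modules] (h1 : Subsingleton (Abelian.Ext.{u} M N 1))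
    (hU : ∀ x : X, ∃ i, x ∈ U i) (hδ : IsCocycle U δ) :
    ∃ ε : ∀ i, HomOn M N (U i), ∀ (i j : ι) (W : X.Opens) (hW : W ≤ U i ⊓ U j) (s : Γ(M, W)),
      (δ i j).app W hW s =
        (ε j).app W (hW.trans inf_le_right) s - (ε i).app W (hW.trans inf_le_left) s := by
  obtain ⟨x₂, hx₂⟩ := Abelian.Ext.covariant_sequence_exact₃ (X := M) (shortExact U δ hU hδ)
    (Abelian.Ext.mk₀ (𝟙 M)) (zero_add 1) (h1.elim _ _)
  obtain ⟨σ, rfl⟩ := (Abelian.Ext.mk₀_bijective (C := X.Modules) _ _).2 x₂
  rw [Abelian.Ext.mk₀_comp_mk₀] at hx₂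
  have hσ : σ ≫ outM U δ = 𝟙 M := (Abelian.Ext.mk₀_bijective (C := X.Modules) _ _).1 hx₂
  let s' : ∀ W : X.Opens, Γ(M, W) → sec U δ W := fun W m => σ.app W m
  have h1' : ∀ (W : X.Opens) (m : Γ(M, W)), (s' W m).1.1 = m := fun W m =>
    congr($(congrArg (fun a => Scheme.Modules.Hom.app a W) hσ) m)
  have hres : ∀ (V W : X.Opens) (h : V ≤ W) (m : Γ(M, W)), s' V (res M h m) = resSec U δ h (s' W m) :=
    fun V W h m => app_res σ h m
  let ε : ∀ i, HomOn M N (U i) := fun i =>
    { app := fun W hW =>
        { toFun := fun m => res N (le_inf le_rfl hW) (pc U ((s' W m).1.2 i))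
          map_add' := fun a b => by
            rw [show s' W (a + b) = s' W a + s' W b from map_add (σ.app W).hom a b]
            exact res_add _ _ _
          map_smul' := fun r a => by
            rw [show s' W (r • a) = r • s' W a from Scheme.Modules.Hom.app_smul σ r a]
            show res N (le_inf le_rfl hW) (resO X (inf_le_left : W ⊓ U i ≤ W) r • (pc U ((s' W a).1.2 i))) = _
            rw [res_smul, resO_resO, resO_self]
            rfl }
      app_res := fun {W W'} hW h m => by
        show res N _ ((s' W' (res M h m)).1.2 i : Γ(N, W' ⊓ U i)) = res N h (res N _ _)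
        rw [hres W' W h m]
        show res N _ (res N _ _) = _
        rw [res_res, res_res] }
  refine ⟨ε, fun i j W hW m => ?_⟩
  have h := (s' W m).2 i j W le_rfl (hW.trans inf_le_left) (hW.trans inf_le_right)
  rw [res_self, h1'] at h
  exact h.symm

end Groth.Agent.Lift3.Cocycle
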