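import Groth.Agent.Mum71.TensorSec
import Groth.Agent.GRec72.Tensor
import Groth.Agent.Props58.LocFree.Criteria
import Groth.Agent.Om3.Conormal
import Groth.Agent.QCPull72.Closed
import Groth.Agent.GSS45.ClosedHom
import Groth.Agent.FMK72.BaseChange
import Groth.Agent.Omega57.Diag
import Groth.Agent.Lift3.OnOpen
import Groth.Agent.Lift3.Cocycle

/-!
Finite locally free modules on a square-zero thickening: morphisms between their restrictions and
the obstruction to extending them.
-/

set_option autoImplicit false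
set_option linter.style.haveILetI false
set_option backward.isDefEq.respectTransparency.types false

universe u

open CategoryTheory CategoryTheory.Limits AlgebraicGeometry TopologicalSpace Opposite
open scoped TensorProduct

noncomputable section

namespace Groth.Agent.Lift3.LinExt

open Groth.Agent QC70

variable {X D : Scheme.{u}} (i : D ⟶ X) [IsClosedImmersion i] (F : X.Modules)

/-- The unit. -/
abbrev η : F ⟶ (Scheme.Modules.pushforward i).obj ((Scheme.Modules.pullback i).obj F) :=
  QCPull72.pullUnit i F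

/-- The sections vanishing on the closed subscheme. -/
def vanishing : X.Modules := kernel (η i F)

/-- Their inclusion. -/
def vanishingι : vanishing i F ⟶ F := kernel.ι (η i F)

instance : Mono (vanishingι i F) := inferInstanceAs (Mono (kernel.ι _))

theorem η_vanishingι : vanishingι i F ≫ η i F = 0 := kernel.condition _

theorem idealSect_mem (U : X.affineOpens) (t : Γ(ClSub.idealMod i.ker, U.1)) :
    OmegaSh.idealSect i.ker U.1 t ∈ i.ker.ideal U := by
  rw [← Scheme.IdealSheafData.ker_subschemeι_app i.ker U]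
  exact Omega57.subschemeι_idealSect _ _ t

theorem app_idealSect (U : X.Opens) (t : Γ(ClSub.idealMod i.ker, U)) :
    i.app U (OmegaSh.idealSect i.ker U t) = 0 := by
  have h : i.toImage ≫ i.ker.subschemeι = i := i.toImage_imageι
  rw [show i.app U = (i.toImage ≫ i.ker.subschemeι).appLE U (i ⁻¹ᵁ U) (by rw [h]) by
    simp only [h, Scheme.Hom.appLE_eq_app]]
  rw [Scheme.Hom.comp_appLE, ConcreteCategory.comp_apply,
    show i.ker.subschemeι.app U (OmegaSh.idealSect i.ker U t) = 0 from Omega57.subschemeι_idealSect _ _ t, map_zero]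

theorem η_smul (U : X.Opens) (a : Γ(X, U)) (x : Γ(F, U)) (h : i.app U a = 0) :
    (η i F).app U (a • x) = 0 := by
  rw [Scheme.Modules.Hom.app_smul]
  refine (QCqs72.pushforward_smul _ i a _).trans ?_
  rw [h, zero_smul]
  rfl

/-- Multiplication of the ideal on the module, as a pairing. -/
def pairing : Mero90.Pairing (ClSub.idealMod i.ker) F F where
  b U t x := OmegaSh.idealSect i.ker U t • x
  add_left U m m' n := by rw [map_add, add_smul]
  add_right U m n n' := smul_add _ _ _
  smul_left U r m n := by rw [Omega57.idealSect_smul, mul_smul]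
  smul_right U r m n := smul_comm _ _ _
  nat U V h m n := by
    show OmegaSh.idealSect i.ker V (res _ h m) • res F h n = res F h (OmegaSh.idealSect i.ker U m • n)
    rw [res_smul, Om3.idealSect_res]

theorem pairing_lift_η : (pairing i F).lift ≫ η i F = 0 := by
  refine GRec72.hom_ext_tmul fun U m n => ?_
  rw [Scheme.Modules.Hom.comp_app, ConcreteCategory.comp_apply, Mero90.Pairing.lift_tmul]
  exact η_smul i F U _ n (app_idealSect i U m)

/-- The comparison. -/
def toVanishing : CohB1.tensorMod (ClSub.idealMod i.ker) F ⟶ vanishing i F :=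
  kernel.lift _ (pairing i F).lift (pairing_lift_η i F)

theorem toVanishing_ι : toVanishing i F ≫ vanishingι i F = (pairing i F).lift := kernel.lift_ι _ _ _

variable {F} (hF : FlatMod.IsFinLocFree F)

include hF in
theorem isIso_toVanishing : IsIso (toVanishing i F) := by
  haveI : F.IsQuasicoherent := Props58.LocFree.isQuasicoherent_of_isFinLocFree hF
  haveI : (ClSub.idealMod i.ker).IsQuasicoherent := Omega57.isQuasicoherent_idealMod _
  refine FMK72.isIso_of_basis _ fun x W hxW => ?_
  obtain ⟨U, n, s, hxU, hs⟩ := Props58.LocFree.isFinLocFree_iff.mp hF x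
  obtain ⟨_, ⟨V, hV, rfl⟩, hxV, hVW⟩ :=
    X.isBasis_affineOpens.exists_subset_of_mem_open (show x ∈ ((W ⊓ U : X.Opens) : Set X) from ⟨hxW, hxU⟩) (W ⊓ U).2
  have hVW' : V ≤ W ⊓ U := hVW
  refine ⟨V, hVW'.trans inf_le_left, hxV, ?_⟩
  have hVU : V ≤ U := hVW'.trans inf_le_right
  let L : (Fin n → Γ(X, V)) →ₗ[Γ(X, V)] Γ(F, V) :=
    Fintype.linearCombination Γ(X, V) (fun j => res F hVU (s j))
  have hL : Function.Bijective L := by
    convert hs.bijective hVU using 1
    exact funext fun a => Fintype.linearCombination_apply _ _ _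
  haveI : Module.Flat Γ(X, V) Γ(F, V) := Module.Flat.of_linearEquiv (LinearEquiv.ofBijective L hL).symm
  obtain ⟨E, hE⟩ := Mum71.exists_tensor_equiv (F := ClSub.idealMod i.ker) (G := F) hV
  let ι₀ : Γ(ClSub.idealMod i.ker, V) →ₗ[Γ(X, V)] Γ(X, V) :=
    { toFun := OmegaSh.idealSect i.ker V
      map_add' := map_add _
      map_smul' := fun r a => Omega57.idealSect_smul _ _ r a }
  let Ψ : Γ(ClSub.idealMod i.ker, V) ⊗[Γ(X, V)] Γ(F, V) →ₗ[Γ(X, V)] Γ(F, V) :=
    (TensorProduct.lid _ _).toLinearMap ∘ₗ ι₀.rTensor Γ(F, V)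
  have hΨ : Function.Injective Ψ :=
    (TensorProduct.lid _ _).injective.comp
      (Module.Flat.rTensor_preserves_injective_linearMap ι₀ (Omega57.idealSect_injective _ _))
  have key : ∀ z, (vanishingι i F).app V ((toVanishing i F).app V (E z)) = Ψ z := by
    intro z
    rw [← ConcreteCategory.comp_apply, ← Scheme.Modules.Hom.comp_app, toVanishing_ι]
    induction z using TensorProduct.induction_on with
    | zero => rw [map_zero, map_zero, map_zero]
    | tmul a b => rw [hE, Mero90.Pairing.lift_tmul]; rfl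
    | add a b ha hb => rw [map_add, map_add, map_add, ha, hb]
  refine ⟨fun a b hab => ?_, fun k => ?_⟩
  · obtain ⟨a, rfl⟩ := E.surjective a
    obtain ⟨b, rfl⟩ := E.surjective b
    exact congrArg E (hΨ (by rw [← key, ← key, hab]))
  · have hk : (η i F).app V ((vanishingι i F).app V k) = 0 :=
      congr(Scheme.Modules.Hom.app $(η_vanishingι i F) V k)
    have hmem := QCPull72.pullUnit_app_eq_zero i F (U := ⟨V, hV⟩) hk
    have hsur : ∀ y ∈ i.ker.ideal ⟨V, hV⟩ • (⊤ : Submodule Γ(X, V) Γ(F, V)), ∃ z, Ψ z = y := by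
      intro y hy
      refine Submodule.smul_induction_on hy (fun a ha v _ => ?_) ?_
      · obtain ⟨t, ht⟩ := Omega57.exists_idealSect_eq i.ker V a (by
          rwa [← Scheme.IdealSheafData.ker_subschemeι_app i.ker ⟨V, hV⟩] at ha)
        exact ⟨t ⊗ₜ v, by show OmegaSh.idealSect i.ker V t • v = a • v; rw [ht]⟩
      · rintro a b ⟨z, rfl⟩ ⟨w, rfl⟩
        exact ⟨z + w, map_add _ _ _⟩
    obtain ⟨z, hz⟩ := hsur _ hmem
    exact ⟨E z, app_injective_of_mono (vanishingι i F) V (by rw [key, hz])⟩

variable (hi : ∀ U : X.affineOpens, i.ker.ideal U ^ 2 = ⊥)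

include hi in
theorem isKilled_vanishing [F.IsQuasicoherent] : GSS45.Descend.IsKilled i (vanishing i F) := by
  intro U a ha k
  refine app_injective_of_mono (vanishingι i F) U.1 ?_
  rw [map_zero, Scheme.Modules.Hom.app_smul]
  have hk : (η i F).app U.1 ((vanishingι i F).app U.1 k) = 0 :=
    congr(Scheme.Modules.Hom.app $(η_vanishingι i F) U.1 k)
  refine Submodule.smul_induction_on (p := fun y => a • y = 0) (QCPull72.pullUnit_app_eq_zero i F (U := U) hk)
    (fun b hb v _ => ?_) (fun y z hy hz => by rw [smul_add, hy, hz, add_zero])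
  have : a * b ∈ i.ker.ideal U ^ 2 := by
    rw [pow_two]; exact Ideal.mul_mem_mul ha hb
  rw [hi U, Ideal.mem_bot] at this
  rw [← mul_smul, this, zero_smul]

/-- The coefficients. -/
abbrev coeff (F : X.Modules) : D.Modules :=
  CohB1.tensorMod ((Scheme.Modules.pullback i).obj (ClSub.idealMod i.ker)) ((Scheme.Modules.pullback i).obj F)

include hi hF in
theorem exists_pushIso : Nonempty ((Scheme.Modules.pushforward i).obj (coeff i F) ≅ vanishing i F) := by
  haveI : F.IsQuasicoherent := Props58.LocFree.isQuasicoherent_of_isFinLocFree hF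
  exact ⟨(Scheme.Modules.pushforward i).mapIso (((GSS45.ClosedHom.pullTensIso i F).app (ClSub.idealMod i.ker)).symm ≪≫
      (Scheme.Modules.pullback i).mapIso (@asIso _ _ _ _ (toVanishing i F) (isIso_toVanishing i hF))) ≪≫
    GSS45.ClosedHom.pullPushIso i (isKilled_vanishing i hi)⟩

section Adjoint

variable {E : X.Modules} {N : D.Modules}

/-- A local morphism out of an inverse image, on the sections upstairs. -/
def pushDown {U : X.Opens} (φ : HomOn ((Scheme.Modules.pullback i).obj E) N (i ⁻¹ᵁ U)) :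
    HomOn E ((Scheme.Modules.pushforward i).obj N) U where
  app W hW :=
    { toFun := fun s => φ.app (i ⁻¹ᵁ W) (i.preimage_mono hW) (OmegaSh.pullSect i E W s)
      map_add' := fun a b => (congrArg _ (map_add (OmegaSh.pullSect i E W).hom a b)).trans (map_add _ _ _)
      map_smul' := fun r a => by
        rw [OmegaSh.pullSect_smul, map_smul]
        exact (QCqs72.pushforward_smul N i r _).symm }
  app_res {W W'} hW h s := by
    show φ.app (i ⁻¹ᵁ W') _ (OmegaSh.pullSect i E W' (res E h s)) =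
      res N (i.preimage_mono h) (φ.app (i ⁻¹ᵁ W) _ (OmegaSh.pullSect i E W s))
    rw [← φ.app_res (i.preimage_mono hW) (i.preimage_mono h)]
    exact congrArg _ (OmegaSh.pullSect_map i E h s)

/-- The sections of a direct image on the trace of an open. -/
def pushOnOpen (U : X.Opens) :
    OnOpen.onOpen U ((Scheme.Modules.pushforward i).obj N) ⟶
      (Scheme.Modules.pushforward i).obj (OnOpen.onOpen (i ⁻¹ᵁ U) N) :=
  HomOn.toHom
    { app := fun W _ =>
        { toFun := fun z => (show OnOpen.Piece (i ⁻¹ᵁ U) N (i ⁻¹ᵁ W) from OnOpen.sec z)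
          map_add' := fun _ _ => rfl
          map_smul' := fun r z => (QCqs72.pushforward_smul N i (resO X (inf_le_left : W ⊓ U ≤ W) r) (OnOpen.sec z)).trans (by
            rw [QCqs72.app_resO]
            rfl) }
      app_res := fun _ _ _ => rfl }

/-- A local morphism into a direct image, downstairs. -/
def pullUp {U : X.Opens} (ψ : HomOn E ((Scheme.Modules.pushforward i).obj N) U) :
    HomOn ((Scheme.Modules.pullback i).obj E) N (i ⁻¹ᵁ U) :=
  OnOpen.toHomOn (((Scheme.Modules.pullbackPushforwardAdjunction i).homEquiv _ _).symm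
    (OnOpen.ofHomOn ψ ≫ pushOnOpen i U))

theorem pullUp_app {U : X.Opens} (ψ : HomOn E ((Scheme.Modules.pushforward i).obj N) U) {W : X.Opens}
    (hW : W ≤ U) (s : Γ(E, W)) :
    (pullUp i ψ).app (i ⁻¹ᵁ W) (i.preimage_mono hW) (OmegaSh.pullSect i E W s) = ψ.app W hW s := by
  let adj := Scheme.Modules.pullbackPushforwardAdjunction i
  let v := (adj.homEquiv _ _).symm (OnOpen.ofHomOn ψ ≫ pushOnOpen i U)
  have h1 : adj.unit.app E ≫ (Scheme.Modules.pushforward i).map v = OnOpen.ofHomOn ψ ≫ pushOnOpen i U :=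
    (adj.homEquiv_unit _ _ _).symm.trans (Equiv.apply_symm_apply _ _)
  have h2 : v.app (i ⁻¹ᵁ W) (OmegaSh.pullSect i E W s) =
      (ψ.app (W ⊓ U) inf_le_right (res E inf_le_left s) : OnOpen.Piece (i ⁻¹ᵁ U) N (i ⁻¹ᵁ W)) :=
    congr(Scheme.Modules.Hom.app $h1 W s)
  show res N _ (OnOpen.sec (v.app (i ⁻¹ᵁ W) (OmegaSh.pullSect i E W s))) = _
  rw [h2, ψ.app_res hW inf_le_left]
  exact (res_res (M := N) _ _ _).trans (res_self _)

/-- Local morphisms out of an inverse image are determined on the sections upstairs. -/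
theorem homOn_ext {U : X.Opens} {φ ψ : HomOn ((Scheme.Modules.pullback i).obj E) N (i ⁻¹ᵁ U)}
    (h : ∀ (W : X.Opens) (hW : W ≤ U) (s : Γ(E, W)),
      φ.app (i ⁻¹ᵁ W) (i.preimage_mono hW) (OmegaSh.pullSect i E W s) =
        ψ.app (i ⁻¹ᵁ W) (i.preimage_mono hW) (OmegaSh.pullSect i E W s)) : φ = ψ := by
  let adj := Scheme.Modules.pullbackPushforwardAdjunction i
  have h1 : OnOpen.ofHomOn φ = OnOpen.ofHomOn ψ := by
    refine (adj.homEquiv _ _).injective ?_
    rw [Adjunction.homEquiv_unit, Adjunction.homEquiv_unit]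
    refine Scheme.Modules.hom_ext _ _ fun W => ?_
    ext s
    show φ.app (i ⁻¹ᵁ W ⊓ i ⁻¹ᵁ U) inf_le_right (res _ inf_le_left (OmegaSh.pullSect i E W s)) =
      ψ.app (i ⁻¹ᵁ W ⊓ i ⁻¹ᵁ U) inf_le_right (res _ inf_le_left (OmegaSh.pullSect i E W s))
    have e := OmegaSh.pullSect_map i E (inf_le_left : W ⊓ U ≤ W) s
    have h3 := h (W ⊓ U) inf_le_right (res E inf_le_left s)
    rw [e] at h3
    exact h3
  refine HomOn.ext' fun W hW s => ?_
  have h2 := congrArg (fun v => OnOpen.pc (i ⁻¹ᵁ U) N (v.app W s : OnOpen.Piece (i ⁻¹ᵁ U) N W)) h1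
  change φ.app (W ⊓ i ⁻¹ᵁ U) inf_le_right (res _ inf_le_left s) =
    ψ.app (W ⊓ i ⁻¹ᵁ U) inf_le_right (res _ inf_le_left s) at h2
  rw [φ.app_res hW inf_le_left, ψ.app_res hW inf_le_left] at h2
  have h3 := congrArg (res N (le_inf le_rfl hW : W ≤ W ⊓ i ⁻¹ᵁ U)) h2
  rwa [res_res, res_res, res_self, res_self] at h3

end Adjoint

theorem add_neg_eq_add_neg {A : Type*} [AddCommGroup A] (a b x y : A) (h : b - a = y - x) :
    a + -x = b + -y := by
  rw [sub_eq_iff_eq_add] at h
  rw [h]
  abel

/-- A local morphism killed by `f` lifts through the kernel of `f`. -/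
theorem exists_homOn_lift {M A B C : X.Modules} (j : A ⟶ B) [Mono j] (f : B ⟶ C)
    (hex : ∀ (W : X.Opens) (y : Γ(B, W)), f.app W y = 0 → ∃ z, j.app W z = y)
    {U : X.Opens} (φ : HomOn M B U) (h : ∀ (W : X.Opens) (hW : W ≤ U) s, f.app W (φ.app W hW s) = 0) :
    ∃ δ : HomOn M A U, ∀ (W : X.Opens) (hW : W ≤ U) s, j.app W (δ.app W hW s) = φ.app W hW s := by
  choose z hz using fun (W : X.Opens) (hW : W ≤ U) (s : Γ(M, W)) => hex W _ (h W hW s)
  exact ⟨{ app := fun W hW =>
             { toFun := z W hW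
               map_add' := fun a b => app_injective_of_mono j W (by rw [map_add, hz, hz, hz, map_add])
               map_smul' := fun r a => app_injective_of_mono j W (by
                 rw [Scheme.Modules.Hom.app_smul, hz, hz, map_smul]; rfl) }
           app_res := fun {W W'} hW h s => app_injective_of_mono j W' (by
             show j.app W' (z W' _ (res M h s)) = j.app W' (res A h (z W hW s))
             rw [app_res, hz, hz, φ.app_res]) }, hz⟩

variable {E : X.Modules} (hE : FlatMod.IsFinLocFree E)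

include hi hF in
/-- A morphism is determined by its restriction when there are no morphisms into the coefficients. -/
theorem ext_of_hom_vanishing (h0 : Subsingleton ((Scheme.Modules.pullback i).obj E ⟶ coeff i F))
    (u u' : E ⟶ F) (h : (Scheme.Modules.pullback i).map u = (Scheme.Modules.pullback i).map u') :
    u = u' := by
  let adj := Scheme.Modules.pullbackPushforwardAdjunction i
  obtain ⟨e⟩ := exists_pushIso i hF hi
  have h1 : (u - u') ≫ η i F = 0 := by
    rw [Preadditive.sub_comp, sub_eq_zero]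
    have := adj.unit.naturality u
    have := adj.unit.naturality u'
    calc u ≫ η i F = η i E ≫ (Scheme.Modules.pushforward i).map ((Scheme.Modules.pullback i).map u) :=
          adj.unit.naturality u
      _ = η i E ≫ (Scheme.Modules.pushforward i).map ((Scheme.Modules.pullback i).map u') := by rw [h]
      _ = u' ≫ η i F := (adj.unit.naturality u').symm
  let l : E ⟶ vanishing i F := kernel.lift _ (u - u') h1
  have h2 : l ≫ e.inv = (0 : E ⟶ _) :=
    (adj.homEquiv _ _).symm.injective (h0.elim _ _)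
  have h3 : l = 0 := by rw [← cancel_mono e.inv, h2, zero_comp]
  have h4 : l ≫ vanishingι i F = u - u' := kernel.lift_ι _ _ _
  rw [h3, zero_comp] at h4
  exact sub_eq_zero.1 h4.symm

include hE hF in
theorem exists_local_lift (v : E ⟶ (Scheme.Modules.pushforward i).obj ((Scheme.Modules.pullback i).obj F)) (x : X) :
    ∃ (W : X.Opens) (φ : HomOn E F W), x ∈ W ∧
      ∀ (V : X.Opens) (hV : V ≤ W) (s : Γ(E, V)), (η i F).app V (φ.app V hV s) = v.app V s := by
  haveI : F.IsQuasicoherent := Props58.LocFree.isQuasicoherent_of_isFinLocFree hF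
  haveI : E.IsQuasicoherent := Props58.LocFree.isQuasicoherent_of_isFinLocFree hE
  obtain ⟨U, n, s, hxU, hs⟩ := Props58.LocFree.isFinLocFree_iff.mp hE x
  obtain ⟨_, ⟨W, hW, rfl⟩, hxW, hWU⟩ := X.isBasis_affineOpens.exists_subset_of_mem_open hxU U.2
  let s' : Fin n → Γ(E, W) := fun j => res E hWU (s j)
  let L : (Fin n → Γ(X, W)) →ₗ[Γ(X, W)] Γ(E, W) := Fintype.linearCombination Γ(X, W) s'
  have hL : Function.Bijective L := by
    convert hs.bijective hWU using 1
    exact funext fun a => Fintype.linearCombination_apply _ _ _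
  choose t ht using fun j => QCPull72.pullUnit_app_surjective i F hW (v.app W (s' j))
  let l : Γ(E, W) →ₗ[Γ(X, W)] Γ(F, W) :=
    (Fintype.linearCombination Γ(X, W) t) ∘ₗ (LinearEquiv.ofBijective L hL).symm.toLinearMap
  refine ⟨W, HomOn.ofLinear hW l, hxW, fun V hV z => ?_⟩
  refine HomOn.ext_of_affine hW (QC70.isLocAt_of_isQuasicoherent E hW)
    ((HomOn.ofLinear hW l).comp (HomOn.ofHom (η i F) W)) (HomOn.ofHom v W) ?_ hV z
  ext y
  obtain ⟨a, rfl⟩ := hL.2 y
  show (η i F).app W ((HomOn.ofLinear hW l).app W le_rfl (L a)) = v.app W (L a)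
  rw [HomOn.ofLinear_app_self]
  show (η i F).app W (Fintype.linearCombination Γ(X, W) t ((LinearEquiv.ofBijective L hL).symm (L a))) = _
  rw [show (LinearEquiv.ofBijective L hL).symm (L a) = a from (LinearEquiv.ofBijective L hL).symm_apply_apply a]
  show (η i F).app W (Fintype.linearCombination Γ(X, W) t a) = v.app W (Fintype.linearCombination Γ(X, W) s' a)
  rw [Fintype.linearCombination_apply, Fintype.linearCombination_apply, map_sum, map_sum]
  exact Finset.sum_congr rfl fun j _ => by
    rw [Scheme.Modules.Hom.app_smul, Scheme.Modules.Hom.app_smul, ht j]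

/-- The obstruction to a lift through a locally split morphism with kernel a direct image. -/
theorem exists_lift_of_kernel {X D : Scheme.{u}} (i : D ⟶ X) [IsClosedImmersion i] {E F P : X.Modules}
    {N : D.Modules} (f : F ⟶ P) (κ : (Scheme.Modules.pushforward i).obj N ⟶ F) [Mono κ] (hκ : κ ≫ f = 0)
    (hex : ∀ (W : X.Opens) (y : Γ(F, W)), f.app W y = 0 → ∃ z, κ.app W z = y) (v : E ⟶ P)
    (hloc : ∀ x : X, ∃ (W : X.Opens) (φ : HomOn E F W), x ∈ W ∧
      ∀ (V : X.Opens) (hV : V ≤ W) (s : Γ(E, V)), f.app V (φ.app V hV s) = v.app V s)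
    [HasExt.{u} D.Modules]
    (h1 : Subsingleton (Abelian.Ext.{u} ((Scheme.Modules.pullback i).obj E) N 1)) :
    ∃ u : E ⟶ F, u ≫ f = v := by
  choose W φ hxW hφ using hloc
  have hd : ∀ a b, ∀ (V : X.Opens) (hV : V ≤ W a ⊓ W b) (s : Γ(E, V)),
      f.app V (((φ b).mono (inf_le_right : W a ⊓ W b ≤ _) + -(φ a).mono (inf_le_left : W a ⊓ W b ≤ _)).app V hV s) = 0 := by
    intro a b V hV s
    rw [HomOn.add_app, HomOn.neg_app, LinearMap.add_apply, LinearMap.neg_apply, map_add, map_neg]
    show f.app V ((φ b).app V _ s) + -f.app V ((φ a).app V _ s) = 0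
    rw [hφ b, hφ a, add_neg_cancel]
  choose δ hδ using fun a b => exists_homOn_lift κ f hex _ (hd a b)
  let δ' : ∀ a b, HomOn ((Scheme.Modules.pullback i).obj E) (N) (i ⁻¹ᵁ W a ⊓ i ⁻¹ᵁ W b) :=
    fun a b => pullUp i (δ a b)
  have hval : ∀ a b (V : X.Opens) (hV : V ≤ W a ⊓ W b) (s : Γ(E, V)),
      κ.app V ((δ' a b).app (i ⁻¹ᵁ V) (i.preimage_mono hV) (OmegaSh.pullSect i E V s)) =
        (φ b).app V (hV.trans inf_le_right) s - (φ a).app V (hV.trans inf_le_left) s := by
    intro a b V hV s
    refine (congrArg (κ.app V) (pullUp_app i (δ a b) hV s)).trans ((hδ a b V hV s).trans ?_)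
    rw [sub_eq_add_neg]
    rfl
  have hc : Cocycle.IsCocycle (fun a => i ⁻¹ᵁ W a) δ' := by
    intro a b c V hab hbc hac s
    have hV : V ≤ i ⁻¹ᵁ (W a ⊓ W b ⊓ W c) := le_inf hab (hbc.trans inf_le_right)
    have h := homOn_ext i
      (φ := (δ' a c).mono (i.preimage_mono (le_inf (inf_le_left.trans inf_le_left) inf_le_right) :
        i ⁻¹ᵁ (W a ⊓ W b ⊓ W c) ≤ i ⁻¹ᵁ (W a ⊓ W c)))
      (ψ := (δ' a b).mono (i.preimage_mono inf_le_left : i ⁻¹ᵁ (W a ⊓ W b ⊓ W c) ≤ i ⁻¹ᵁ (W a ⊓ W b)) +
        (δ' b c).mono (i.preimage_mono (le_inf (inf_le_left.trans inf_le_right) inf_le_right) :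
        i ⁻¹ᵁ (W a ⊓ W b ⊓ W c) ≤ i ⁻¹ᵁ (W b ⊓ W c))) fun Z hZ z => by
      refine app_injective_of_mono κ Z ?_
      refine (hval a c Z (hZ.trans (le_inf (inf_le_left.trans inf_le_left) inf_le_right)) z).trans ?_
      rw [HomOn.add_app, LinearMap.add_apply]
      refine Eq.trans ?_ (map_add (κ.app Z).hom _ _).symm
      refine Eq.trans ?_ (congrArg₂ (· + ·) (hval a b Z (hZ.trans inf_le_left) z)
        (hval b c Z (hZ.trans (le_inf (inf_le_left.trans inf_le_right) inf_le_right)) z)).symm
      abel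
    exact congr(HomOn.app $h V hV s)
  obtain ⟨ε, hε⟩ := Cocycle.exists_eq_sub (fun a => i ⁻¹ᵁ W a) δ' h1 (fun z => ⟨i z, hxW (i z)⟩) hc
  let ψ : ∀ a, HomOn E F (W a) := fun a =>
    φ a + -(pushDown i (ε a)).comp (HomOn.ofHom κ (W a))
  have hψ : HomOn.Compatible ψ := by
    intro a b V ha hb s
    show (φ a).app V ha s + -κ.app V _ = (φ b).app V hb s + -κ.app V _
    have hV : V ≤ W a ⊓ W b := le_inf ha hb
    have h2 := hval a b V hV s
    rw [hε a b (i ⁻¹ᵁ V) (i.preimage_mono hV)] at h2
    exact add_neg_eq_add_neg _ _ _ _ (h2.symm.trans (map_sub (κ.app V).hom _ _))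
  let u : E ⟶ F := (HomOn.glue hψ (fun x _ => Opens.mem_iSup.2 ⟨x, hxW x⟩ : (⊤ : X.Opens) ≤ ⨆ a, W a)).toHom
  refine ⟨u, Scheme.Modules.hom_ext _ _ fun V => ?_⟩
  ext s
  refine section_ext' P
    (fun a => V ⊓ W a) (fun _ => inf_le_left)
    (fun x hx => Opens.mem_iSup.2 ⟨x, hx, hxW x⟩) _ _ fun a => ?_
  show res _ _ (f.app V (u.app V s)) = res _ _ (v.app V s)
  rw [← app_res, ← app_res u, ← app_res v, HomOn.toHom_app, HomOn.glue_app hψ _ _ a inf_le_right]
  show f.app _ ((φ a).app _ _ _ + -κ.app _ _) = _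
  rw [map_add, map_neg, hφ a, show f.app (V ⊓ W a) (κ.app (V ⊓ W a) _) = 0 from
    congr(Scheme.Modules.Hom.app $hκ (V ⊓ W a) _), neg_zero, add_zero]

include hi hE hF in
/-- A morphism of the restrictions extends when there are no extensions by the coefficients. -/
theorem exists_extension [HasExt.{u} D.Modules]
    (h1 : Subsingleton (Abelian.Ext.{u} ((Scheme.Modules.pullback i).obj E) (coeff i F) 1))
    (u₀ : (Scheme.Modules.pullback i).obj E ⟶ (Scheme.Modules.pullback i).obj F) :
    ∃ u : E ⟶ F, (Scheme.Modules.pullback i).map u = u₀ := by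
  let adj := Scheme.Modules.pullbackPushforwardAdjunction i
  obtain ⟨e⟩ := exists_pushIso i hF hi
  let κ := e.hom ≫ vanishingι i F
  have hκ : κ ≫ η i F = 0 := by rw [Category.assoc, η_vanishingι, comp_zero]
  have hex : ∀ (W : X.Opens) (y : Γ(F, W)), (η i F).app W y = 0 → ∃ z, κ.app W z = y := by
    intro W y hy
    obtain ⟨k, rfl⟩ := exists_kernel_app_eq (η i F) W y hy
    exact ⟨e.inv.app W (show Γ(vanishing i F, W) from k), congrArg ((vanishingι i F).app W)
      (show e.hom.app W (e.inv.app W (show Γ(vanishing i F, W) from k)) = k from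
        congr(Scheme.Modules.Hom.app $(e.inv_hom_id) W (show Γ(vanishing i F, W) from k)))⟩
  obtain ⟨u, hu⟩ := exists_lift_of_kernel i (η i F) κ hκ hex (adj.homEquiv _ _ u₀)
    (exists_local_lift i hF hE _) h1
  refine ⟨u, (adj.homEquiv _ _).injective ?_⟩
  rw [← hu, Adjunction.homEquiv_unit]
  exact (adj.unit.naturality u).symm

include hi hF in
/-- An endomorphism congruent to the identity is an isomorphism. -/
theorem isIso_of_map_eq_id (f : F ⟶ F) (hf : (Scheme.Modules.pullback i).map f = 𝟙 _) : IsIso f := by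
  haveI : F.IsQuasicoherent := Props58.LocFree.isQuasicoherent_of_isFinLocFree hF
  let adj := Scheme.Modules.pullbackPushforwardAdjunction i
  let w : F ⟶ F := f - 𝟙 F
  have hw : w ≫ η i F = 0 := by
    rw [Preadditive.sub_comp, sub_eq_zero]
    refine (adj.unit.naturality f).trans ?_
    show η i F ≫ (Scheme.Modules.pushforward i).map ((Scheme.Modules.pullback i).map f) = 𝟙 F ≫ η i F
    rw [hf, CategoryTheory.Functor.map_id, Category.comp_id, Category.id_comp]
  have hww : w ≫ w = 0 := by
    refine Scheme.Modules.hom_ext _ _ fun V => ?_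
    ext y
    refine section_ext F _ _ fun x hx => ?_
    obtain ⟨_, ⟨U, hU, rfl⟩, hxU, hUV⟩ := X.isBasis_affineOpens.exists_subset_of_mem_open hx V.2
    refine ⟨U, hUV, hxU, ?_⟩
    show res F hUV ((w ≫ w).app V y) = res F hUV ((0 : F ⟶ F).app V y)
    rw [← app_res, ← app_res]
    show w.app U (w.app U (res F hUV y)) = 0
    have hmem : ∀ z, w.app U z ∈ i.ker.ideal ⟨U, hU⟩ • (⊤ : Submodule Γ(X, U) Γ(F, U)) := fun z =>
      QCPull72.pullUnit_app_eq_zero i F (U := ⟨U, hU⟩) congr(Scheme.Modules.Hom.app $hw U z)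
    refine Submodule.smul_induction_on (p := fun z => w.app U z = 0) (hmem (res F hUV y))
      (fun a ha v _ => ?_) (fun b c hb hc => by rw [map_add, hb, hc, add_zero])
    rw [Scheme.Modules.Hom.app_smul]
    refine Submodule.smul_induction_on (p := fun z => a • z = 0) (hmem v)
      (fun b hb z _ => ?_) (fun b c hb hc => by rw [smul_add, hb, hc, add_zero])
    have : a * b ∈ i.ker.ideal ⟨U, hU⟩ ^ 2 := by
      rw [pow_two]; exact Ideal.mul_mem_mul ha hb
    rw [hi ⟨U, hU⟩, Ideal.mem_bot] at this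
    rw [← mul_smul, this, zero_smul]
  have hfw : f = 𝟙 F + w := (add_sub_cancel _ _).symm
  refine ⟨⟨𝟙 F - w, ?_, ?_⟩⟩
  · rw [hfw]
    simp only [Preadditive.add_comp, Preadditive.comp_sub, Category.id_comp, Category.comp_id, hww]
    abel
  · rw [hfw]
    simp only [Preadditive.sub_comp, Preadditive.comp_add, Category.id_comp, Category.comp_id, hww]
    abel

theorem subsingleton_ext {C : Type*} [Category C] [Abelian C] [HasExt.{u} C] {M M' N N' : C} {n : ℕ}
    (a : M ≅ M') (b : N ≅ N') (h : Subsingleton (Abelian.Ext.{u} M N n)) :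
    Subsingleton (Abelian.Ext.{u} M' N' n) :=
  ⟨fun x y => by
    have key : ∀ z : Abelian.Ext.{u} M' N' n, z = ((Abelian.Ext.mk₀ a.inv).comp
        (((Abelian.Ext.mk₀ a.hom).comp z (zero_add n)).comp (Abelian.Ext.mk₀ b.inv) (add_zero n))
        (zero_add n)).comp (Abelian.Ext.mk₀ b.hom) (add_zero n) := by
      intro z
      simp
    rw [key x, key y, h.elim (((Abelian.Ext.mk₀ a.hom).comp x (zero_add n)).comp (Abelian.Ext.mk₀ b.inv) (add_zero n))
      (((Abelian.Ext.mk₀ a.hom).comp y (zero_add n)).comp (Abelian.Ext.mk₀ b.inv) (add_zero n))]⟩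

include hi in
/-- Two lifts of a module are isomorphic when there are no extensions by the coefficients. -/
theorem exists_iso {E E' : X.Modules} (hE : FlatMod.IsFinLocFree E) (hE' : FlatMod.IsFinLocFree E')
    (e : (Scheme.Modules.pullback i).obj E ≅ (Scheme.Modules.pullback i).obj E')
    [HasExt.{u} D.Modules]
    (h1 : Subsingleton (Abelian.Ext.{u} ((Scheme.Modules.pullback i).obj E) (coeff i E) 1)) :
    Nonempty (E ≅ E') := by
  obtain ⟨u, hu⟩ := exists_extension i hE' hi hE
    (subsingleton_ext (Iso.refl _) (EGA73.tensIso (Iso.refl _) e) h1) e.hom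
  obtain ⟨v, hv⟩ := exists_extension i hE hi hE'
    (subsingleton_ext e (Iso.refl _) h1) e.inv
  have h₁ : IsIso (u ≫ v) := isIso_of_map_eq_id i hE hi _ (by rw [Functor.map_comp, hu, hv, e.hom_inv_id])
  have h₂ : IsIso (v ≫ u) := isIso_of_map_eq_id i hE' hi _ (by rw [Functor.map_comp, hu, hv, e.inv_hom_id])
  haveI : IsSplitMono u := IsSplitMono.mk' ⟨v ≫ inv (u ≫ v), by rw [← Category.assoc, IsIso.hom_inv_id]⟩
  haveI : Epi u := by
    haveI : Epi (v ≫ u) := inferInstance
    exact epi_of_epi v u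
  haveI : IsIso u := isIso_of_epi_of_isSplitMono u
  exact ⟨asIso u⟩

end Groth.Agent.Lift3.LinExt
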