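import Groth.Agent.Lift3.LinExt
import Groth.Agent.Mero90.Frames
import Groth.Agent.Amp73.PullTensor
import Groth.Agent.QC70.ExtZero
import Groth.Agent.QC70.HomLocFree
import Groth.Prelude.Def_DDual2

/-!
Invertible modules along a small extension: the kernel is free over the closed fibre, so lifts are
unique when the structure sheaf of the closed fibre has no first cohomology.
-/

set_option autoImplicit false
set_option linter.style.haveILetI false
set_option backward.isDefEq.respectTransparency.types false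

universe u

open CategoryTheory CategoryTheory.Limits AlgebraicGeometry TopologicalSpace Opposite

noncomputable section

namespace Groth.Agent.Lift3.SmallExt

open Groth.Agent QC70

theorem isFinLocFree_of_isInvertible {X : Scheme.{u}} {L : X.Modules} (hL : PicF.IsInvertible L) :
    FlatMod.IsFinLocFree L := fun x => by
  obtain ⟨U, hx, hU⟩ := Mero90.isFinLocFreeOfRank_of_isInvertible hL x
  exact ⟨U, 1, hx, hU⟩

/-- Extensions of an invertible module by itself, when the structure sheaf has no first cohomology. -/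
theorem subsingleton_ext_self {X : Scheme.{u}} [HasExt.{u} X.Modules]
    (h1 : Subsingleton (Coh.HH X (Coh.structureModule X) 1)) {L : X.Modules} (hL : PicF.IsInvertible L) :
    Subsingleton (Abelian.Ext.{u} L L 1) := by
  obtain ⟨e⟩ := QC70.nonempty_ext_equiv_HH (isFinLocFree_of_isInvertible hL) L 1
  have hid : IsIso (QC70.idSec L) := by
    refine FMK72.isIso_of_basis _ fun x W hxW => ?_
    obtain ⟨U, hxU, s, hs⟩ := Mero90.exists_frame' hL x
    refine ⟨W ⊓ U, inf_le_left, ⟨hxW, hxU⟩, ?_⟩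
    let V := W ⊓ U
    have hVU : V ≤ U := inf_le_right
    have hval : ∀ (a : Γ(X, V)), ((QC70.idSec L).app V a : HomOn L L V).app V le_rfl (res L hVU s) =
        a • res L hVU s := by
      intro a
      show resO X le_rfl a • (HomOn.ofHom (𝟙 L) ⊤).app V le_top (res L hVU s) = _
      rw [resO_self]
      rfl
    refine ⟨fun a b hab => ?_, fun φ => ?_⟩
    · refine (hs V hVU).1 ?_
      show (show Γ(X, V) from a) • res L hVU s = (show Γ(X, V) from b) • res L hVU s
      rw [← hval, ← hval, hab]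
    · let φ' : HomOn L L V := φ
      obtain ⟨a, ha⟩ := (hs V hVU).2 (φ'.app V le_rfl (res L hVU s))
      refine ⟨a, HomOn.ext' fun Z hZ z => ?_⟩
      obtain ⟨c, hc⟩ := (hs Z (hZ.trans hVU)).2 z
      have hz : z = c • res L hZ (res L hVU s) := by rw [res_res]; exact hc.symm
      subst hz
      have h2 := ((QC70.idSec L).app V a : HomOn L L V).app_res le_rfl hZ (res L hVU s)
      rw [map_smul, map_smul, h2, hval, φ.app_res le_rfl hZ, show φ'.app V le_rfl (res L hVU s) = φ.app V le_rfl (res L hVU s) from rfl]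
      exact congrArg (fun y => c • res L hZ y) ha
  let θ : Coh.HH X (Coh.structureModule X) 1 ≃+ Coh.HH X (homMod L L) 1 :=
    ((Abelian.extFunctorObj _ 1).mapIso ((SheafOfModules.toSheaf X.ringCatSheaf).mapIso
      (@asIso X.Modules _ (QC70.unitMod X) (QC70.homMod L L) (QC70.idSec L) hid))).addCommGroupIsoToAddEquiv
  exact (e.trans θ.symm).toEquiv.subsingleton

variable {X X₁ X₀ : Scheme.{u}} (t : X₁ ⟶ X) [IsClosedImmersion t] (i : X₀ ⟶ X) [IsClosedImmersion i]
  (hsq : ∀ V : X.affineOpens, i.ker.ideal V * t.ker.ideal V = ⊥)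

include hsq in
theorem isKilled_idealMod : GSS45.Descend.IsKilled i (ClSub.idealMod t.ker) := by
  intro U a ha s
  refine Omega57.idealSect_injective t.ker U.1 ?_
  rw [Omega57.idealSect_smul, map_zero]
  have := Ideal.mul_mem_mul ha (LinExt.idealSect_mem t U s)
  rwa [hsq U, Ideal.mem_bot] at this

include hsq in
theorem isKilled_vanishing (F : X.Modules) [F.IsQuasicoherent] :
    GSS45.Descend.IsKilled i (LinExt.vanishing t F) := by
  intro U a ha k
  refine app_injective_of_mono (LinExt.vanishingι t F) U.1 ?_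
  rw [map_zero, Scheme.Modules.Hom.app_smul]
  have hk : (LinExt.η t F).app U.1 ((LinExt.vanishingι t F).app U.1 k) = 0 :=
    congr(Scheme.Modules.Hom.app $(LinExt.η_vanishingι t F) U.1 k)
  refine Submodule.smul_induction_on (p := fun y => a • y = 0) (QCPull72.pullUnit_app_eq_zero t F (U := U) hk)
    (fun b hb v _ => ?_) (fun y z hy hz => by rw [smul_add, hy, hz, add_zero])
  have := Ideal.mul_mem_mul ha hb
  rw [hsq U, Ideal.mem_bot] at this
  rw [← mul_smul, this, zero_smul]

variable {r : ℕ} (α : Fin r → Γ(X, ⊤)) (hα : ∀ l, t.app ⊤ (α l) = 0)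
  (hgen : ∀ V : X.affineOpens,
    t.ker.ideal V = Ideal.span (Set.range fun l => resO X (le_top : V.1 ≤ ⊤) (α l)))
  (hrel : ∀ (V : X.affineOpens) (b : Fin r → Γ(X, V.1)),
    ∑ l, b l * resO X (le_top : V.1 ≤ ⊤) (α l) = 0 → ∀ l, b l ∈ i.ker.ideal V)

include hsq hα hgen hrel in
/-- The kernel, restricted to the closed fibre, splits into copies of the structure sheaf. -/
theorem exists_decomp :
    ∃ (π : Fin r → ((Scheme.Modules.pullback i).obj (ClSub.idealMod t.ker) ⟶ Coh.structureModule X₀))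
      (σ : Fin r → (Coh.structureModule X₀ ⟶ (Scheme.Modules.pullback i).obj (ClSub.idealMod t.ker))),
      ∑ l, π l ≫ σ l = 𝟙 _ := by
  let I := ClSub.idealMod t.ker
  haveI : I.IsQuasicoherent := Omega57.isQuasicoherent_idealMod _
  let I₀ := (Scheme.Modules.pullback i).obj I
  have hker : ∀ l, t.ker.subschemeι.app ⊤ (α l) = 0 := fun l => by
    have h : inv t.toImage ≫ t = t.ker.subschemeι := by
      rw [IsIso.inv_comp_eq]
      exact t.toImage_imageι.symm
    rw [← h]
    show (inv t.toImage).app (t ⁻¹ᵁ ⊤) (t.app ⊤ (α l)) = 0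
    rw [hα l, map_zero]
  choose s hs using fun l => Omega57.exists_idealSect_eq t.ker ⊤ (α l) (hker l)
  have hsV : ∀ (V : X.Opens) l, OmegaSh.idealSect t.ker V (res I le_top (s l)) = resO X (le_top : V ≤ ⊤) (α l) := by
    intro V l
    rw [Om3.idealSect_res, hs l]
  let σ : Fin r → (Coh.structureModule X₀ ⟶ I₀) := fun l =>
    QC70.unitHom (show Γ(I₀, ⊤) from OmegaSh.pullSect i I ⊤ (s l))
  let S := fun _ : Fin r => Coh.structureModule X₀
  let q : ⨁ S ⟶ I₀ := biproduct.desc σ
  have hq : ∀ (V : X.Opens) (z : Γ(⨁ S, i ⁻¹ᵁ V)), q.app (i ⁻¹ᵁ V) z =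
      ∑ l, (show Γ(X₀, i ⁻¹ᵁ V) from (biproduct.π S l).app (i ⁻¹ᵁ V) z) •
        OmegaSh.pullSect i I V (res I le_top (s l)) := by
    intro V z
    have h1 : q = ∑ l, biproduct.π S l ≫ σ l := by
      rw [show q = 𝟙 _ ≫ q from (Category.id_comp q).symm, ← biproduct.total, Preadditive.sum_comp]
      exact Finset.sum_congr rfl fun l _ => by rw [Category.assoc, biproduct.ι_desc]
    let ev : (⨁ S ⟶ I₀) →+ Γ(I₀, i ⁻¹ᵁ V) := AddMonoidHom.mk' (fun f => f.app (i ⁻¹ᵁ V) z) fun _ _ => rfl
    show ev q = _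
    rw [h1, map_sum]
    refine Finset.sum_congr rfl fun l _ => ?_
    show (σ l).app _ ((biproduct.π S l).app _ z) = _
    refine congrArg (fun y : Γ(I₀, i ⁻¹ᵁ V) =>
      (show Γ(X₀, i ⁻¹ᵁ V) from (biproduct.π S l).app (i ⁻¹ᵁ V) z) • y) ?_
    exact (OmegaSh.pullSect_map i I (le_top : V ≤ ⊤) (s l)).symm
  haveI : IsIso q := by
    refine FMK72.isIso_of_basis _ fun x W hxW => ?_
    obtain ⟨W', hW'⟩ := i.isClosedEmbedding.isInducing.isOpen_iff.mp W.2
    obtain ⟨_, ⟨V, hV, rfl⟩, hxV, hVW⟩ := X.isBasis_affineOpens.exists_subset_of_mem_open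
      (show i x ∈ W' by rw [← Set.mem_preimage, hW'.2]; exact hxW) hW'.1
    refine ⟨i ⁻¹ᵁ V, fun y hy => ?_, hxV, ?_⟩
    · have : i y ∈ W' := hVW hy
      rwa [← Set.mem_preimage, hW'.2] at this
    have key : ∀ (z : Γ(⨁ S, i ⁻¹ᵁ V)) (b : Fin r → Γ(X, V)),
        (∀ l, i.app V (b l) = (show Γ(X₀, i ⁻¹ᵁ V) from (biproduct.π S l).app (i ⁻¹ᵁ V) z)) →
        q.app (i ⁻¹ᵁ V) z = OmegaSh.pullSect i I V (∑ l, b l • (res I le_top (s l) : Γ(I, V))) := by
      intro z b hb
      rw [hq, map_sum]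
      exact Finset.sum_congr rfl fun l _ => by rw [OmegaSh.pullSect_smul, hb l]
    refine ⟨(injective_iff_map_eq_zero _).2 fun z hz => ?_, fun y => ?_⟩
    · choose b hb using fun l => i.app_surjective V hV
        (show Γ(X₀, i ⁻¹ᵁ V) from (biproduct.π S l).app (i ⁻¹ᵁ V) z)
      rw [key z b hb] at hz
      have hmem := QCPull72.pullUnit_app_eq_zero i I (U := ⟨V, hV⟩) hz
      have h0 : ∑ l, b l • (res I le_top (s l) : Γ(I, V)) = 0 := by
        refine Submodule.smul_induction_on (p := fun y => y = 0) hmem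
          (fun a ha v _ => isKilled_idealMod t i hsq ⟨V, hV⟩ a ha v) (fun y y' h h' => by rw [h, h', add_zero])
      have h0' := congrArg (OmegaSh.idealSect t.ker V) h0
      rw [map_sum, map_zero] at h0'
      have hb0 := hrel ⟨V, hV⟩ b ((Finset.sum_congr rfl fun l _ => by
        rw [Omega57.idealSect_smul, hsV]).trans h0')
      let ev : (⨁ S ⟶ ⨁ S) →+ Γ(⨁ S, i ⁻¹ᵁ V) := AddMonoidHom.mk' (fun f => f.app (i ⁻¹ᵁ V) z) fun _ _ => rfl
      show ev (𝟙 _) = 0
      rw [← biproduct.total, map_sum]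
      refine Finset.sum_eq_zero fun l _ => ?_
      show (biproduct.ι S l).app _ ((biproduct.π S l).app _ z) = 0
      rw [show (biproduct.π S l).app (i ⁻¹ᵁ V) z = 0 from
        (hb l).symm.trans (i.ideal_ker_le ⟨V, hV⟩ (hb0 l)), map_zero]
    · obtain ⟨m, hm⟩ := QCPull72.pullUnit_app_surjective i I hV y
      have hmem := LinExt.idealSect_mem t ⟨V, hV⟩ m
      rw [hgen, Ideal.mem_span_range_iff_exists_fun] at hmem
      obtain ⟨b, hb⟩ := hmem
      have hm' : ∑ l, b l • (res I le_top (s l) : Γ(I, V)) = m := by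
        refine Omega57.idealSect_injective t.ker V ?_
        rw [map_sum, ← hb]
        exact Finset.sum_congr rfl fun l _ => by rw [Omega57.idealSect_smul, hsV]
      let ev : (Fin r → (Coh.structureModule X₀ ⟶ ⨁ S)) := biproduct.ι S
      refine ⟨∑ l, (ev l).app (i ⁻¹ᵁ V) (show Γ(Coh.structureModule X₀, i ⁻¹ᵁ V) from i.app V (b l)), ?_⟩
      rw [key _ b ?_, hm']
      · exact hm
      intro l
      rw [map_sum, Finset.sum_eq_single l]
      · exact (congr(Scheme.Modules.Hom.app $(biproduct.ι_π_self S l) (i ⁻¹ᵁ V)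
          (show Γ(Coh.structureModule X₀, i ⁻¹ᵁ V) from i.app V (b l)))).symm
      · intro k _ hk
        exact congr(Scheme.Modules.Hom.app $(biproduct.ι_π_ne S hk) (i ⁻¹ᵁ V)
          (show Γ(Coh.structureModule X₀, i ⁻¹ᵁ V) from i.app V (b k)))
      · exact fun h => absurd (Finset.mem_univ l) h
  refine ⟨fun l => inv q ≫ biproduct.π S l, σ, ?_⟩
  have h2 : ∑ l, biproduct.π S l ≫ σ l = q := by
    rw [show q = 𝟙 _ ≫ q from (Category.id_comp q).symm, ← biproduct.total, Preadditive.sum_comp]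
    exact Finset.sum_congr rfl fun l _ => by rw [Category.assoc, biproduct.ι_desc]
  simp only [Category.assoc]
  rw [← Preadditive.comp_sum, h2, IsIso.inv_hom_id]

include hsq hα hgen hrel in
theorem subsingleton_ext_coeff [HasExt.{u} X₀.Modules]
    (h1 : Subsingleton (Coh.HH X₀ (Coh.structureModule X₀) 1)) {L : X₀.Modules} (hL : PicF.IsInvertible L) :
    Subsingleton (Abelian.Ext.{u} L
      (CohB1.tensorMod ((Scheme.Modules.pullback i).obj (ClSub.idealMod t.ker)) L) 1) := by
  obtain ⟨π, σ, hπ⟩ := exists_decomp t i hsq α hα hgen hrel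
  let T := DCoh.tensorRightMod L
  haveI : T.Additive := DCoh.additive_tensorRightMod L
  have hO : Subsingleton (Abelian.Ext.{u} L (T.obj (Coh.structureModule X₀)) 1) :=
    LinExt.subsingleton_ext (Iso.refl _) (EGA73.tensUnitLeft L).symm (subsingleton_ext_self h1 hL)
  refine ⟨fun x y => ?_⟩
  have key : ∀ z : Abelian.Ext.{u} L (T.obj ((Scheme.Modules.pullback i).obj (ClSub.idealMod t.ker))) 1, z = 0 := by
    intro z
    rw [← Abelian.Ext.comp_mk₀_id z, ← T.map_id, ← hπ, T.map_sum, Abelian.Ext.mk₀_sum, Abelian.Ext.comp_sum]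
    refine Finset.sum_eq_zero fun l _ => ?_
    rw [T.map_comp, ← Abelian.Ext.mk₀_comp_mk₀, ← Abelian.Ext.comp_assoc_of_third_deg_zero,
      hO.elim (z.comp (Abelian.Ext.mk₀ (T.map (π l))) (add_zero 1)) 0, Abelian.Ext.zero_comp]
  exact (key x).trans (key y).symm

include hsq hα hgen hrel in
/-- Invertible modules are rigid along a small extension. -/
theorem exists_iso (hle : ∀ V : X.affineOpens, t.ker.ideal V ≤ i.ker.ideal V)
    [HasExt.{u} X₀.Modules] (h1 : Subsingleton (Coh.HH X₀ (Coh.structureModule X₀) 1))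
    {L L' : X.Modules} (hL : PicF.IsInvertible L) (hL' : PicF.IsInvertible L')
    (e : (Scheme.Modules.pullback t).obj L ≅ (Scheme.Modules.pullback t).obj L')
    (e₀ : (Scheme.Modules.pullback i).obj L ≅ (Scheme.Modules.pullback i).obj L') :
    Nonempty (L ≅ L') := by
  have hi : ∀ U : X.affineOpens, t.ker.ideal U ^ 2 = ⊥ := fun U => by
    rw [pow_two, ← le_bot_iff, ← hsq U]
    exact Ideal.mul_mono_left (hle U)
  have lift : ∀ {E F : X.Modules}, PicF.IsInvertible E → PicF.IsInvertible F →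
      ((Scheme.Modules.pullback i).obj E ≅ (Scheme.Modules.pullback i).obj F) →
      ∀ u₀ : (Scheme.Modules.pullback t).obj E ⟶ (Scheme.Modules.pullback t).obj F,
        ∃ u : E ⟶ F, (Scheme.Modules.pullback t).map u = u₀ := by
    intro E F hE hF e₀ u₀
    have hE' := isFinLocFree_of_isInvertible hE
    have hF' := isFinLocFree_of_isInvertible hF
    haveI : F.IsQuasicoherent := Props58.LocFree.isQuasicoherent_of_isFinLocFree hF'
    let adj := Scheme.Modules.pullbackPushforwardAdjunction t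
    let K := LinExt.vanishing t F
    let e := GSS45.ClosedHom.pullPushIso i (K := K) (isKilled_vanishing t i hsq F)
    let κ := e.hom ≫ LinExt.vanishingι t F
    have hκ : κ ≫ LinExt.η t F = 0 := by rw [Category.assoc, LinExt.η_vanishingι, comp_zero]
    have hex : ∀ (W : X.Opens) (y : Γ(F, W)), (LinExt.η t F).app W y = 0 → ∃ z, κ.app W z = y := by
      intro W y hy
      obtain ⟨k, rfl⟩ := exists_kernel_app_eq (LinExt.η t F) W y hy
      exact ⟨e.inv.app W (show Γ(K, W) from k), congrArg ((LinExt.vanishingι t F).app W)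
        (show e.hom.app W (e.inv.app W (show Γ(K, W) from k)) = k from
          congr(Scheme.Modules.Hom.app $(e.inv_hom_id) W (show Γ(K, W) from k)))⟩
    haveI := LinExt.isIso_toVanishing t hF'
    have h2 : Subsingleton (Abelian.Ext.{u} ((Scheme.Modules.pullback i).obj E)
        ((Scheme.Modules.pullback i).obj K) 1) :=
      LinExt.subsingleton_ext e₀.symm
        (((GSS45.ClosedHom.pullTensIso i F).app (ClSub.idealMod t.ker)).symm ≪≫
          (Scheme.Modules.pullback i).mapIso (@asIso _ _ _ _ (LinExt.toVanishing t F) (LinExt.isIso_toVanishing t hF')))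
        (subsingleton_ext_coeff t i hsq α hα hgen hrel h1 (Amp73.isInvertible_pullback i hF))
    obtain ⟨u, hu⟩ := LinExt.exists_lift_of_kernel i (LinExt.η t F) κ hκ hex (adj.homEquiv _ _ u₀)
      (LinExt.exists_local_lift t hF' hE' _) h2
    refine ⟨u, (adj.homEquiv _ _).injective ?_⟩
    rw [← hu, Adjunction.homEquiv_unit]
    exact (adj.unit.naturality u).symm
  obtain ⟨u, hu⟩ := lift hL hL' e₀ e.hom
  obtain ⟨v, hv⟩ := lift hL' hL e₀.symm e.inv
  have h₁ : IsIso (u ≫ v) := LinExt.isIso_of_map_eq_id t (isFinLocFree_of_isInvertible hL) hi _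
    (by rw [Functor.map_comp, hu, hv, e.hom_inv_id])
  have h₂ : IsIso (v ≫ u) := LinExt.isIso_of_map_eq_id t (isFinLocFree_of_isInvertible hL') hi _
    (by rw [Functor.map_comp, hu, hv, e.inv_hom_id])
  haveI : IsSplitMono u := IsSplitMono.mk' ⟨v ≫ inv (u ≫ v), by rw [← Category.assoc, IsIso.hom_inv_id]⟩
  haveI : Epi u := epi_of_epi v u
  haveI : IsIso u := isIso_of_epi_of_isSplitMono u
  exact ⟨asIso u⟩

end Groth.Agent.Lift3.SmallExt
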